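import Groth.Agent.Lib.GrpShEx23.Basic
import Groth.Agent.Lib.Isogeny14.Kernel
import Groth.Agent.Lib.AbSchRigid22.Basic
import Groth.Agent.S7785
import Groth.Agent.Lib.SchBasic.Basic
import Groth.Agent.Lib.TorusIsog19.Basic

/-!
# Multiplication by a nonzero integer on the points of an abelian scheme is an fppf epimorphism
-/

set_option autoImplicit false
set_option linter.style.haveILetI false
universe u

open CategoryTheory CategoryTheory.Limits AlgebraicGeometry Opposite MonObj MonoidalCategory CartesianMonoidalCategory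

noncomputable section

namespace Groth.Agent.EpiMul8

variable {S : Scheme.{u}} {G H : Over S} [GrpObj G] [IsCommMonObj G] [GrpObj H] [IsCommMonObj H]

/-- A faithfully flat homomorphism of finite presentation is an fppf epimorphism. -/
theorem epi_ptsMap_of_fppf (p : G ⟶ H) [IsMonHom p] [Flat p.left] [Surjective p.left]
    [LocallyOfFinitePresentation p.left] : Epi (CGrpSh.ptsMap Scheme.fppfPrecoverage p) := by
  refine GrpShEx23.epi_ptsMap_of_lifts _ p fun T x => ?_
  let q := pullback.fst x.left p.left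
  haveI : Flat q := MorphismProperty.pullback_fst _ _ ‹Flat p.left›
  haveI : Surjective q := MorphismProperty.pullback_fst _ _ ‹Surjective p.left›
  haveI : LocallyOfFinitePresentation q :=
    MorphismProperty.pullback_fst _ _ ‹LocallyOfFinitePresentation p.left›
  refine ⟨Sieve.generate (Presieve.singleton q),
    Precoverage.generate_mem_toGrothendieck q.singleton_mem_fppfPrecoverage, ?_⟩
  rintro V j ⟨W, a, _, ⟨⟩, rfl⟩
  refine ⟨Over.homMk (a ≫ pullback.snd x.left p.left) ?_, Over.OverMorphism.ext ?_⟩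
  · dsimp
    rw [Category.assoc, Category.assoc, ← Over.w p, ← pullback.condition_assoc, Over.w x]
  · simp [q, pullback.condition]

/-- Multiplication by `n` on sections. -/
theorem nsmul_eq_ptsMap (A : Over S) [GrpObj A] [IsCommMonObj A] (m : ℕ) [IsMonHom (𝟙 A ^ m : A ⟶ A)] :
    m • 𝟙 (CGrpSh.pts Scheme.fppfPrecoverage A) = CGrpSh.ptsMap Scheme.fppfPrecoverage (𝟙 A ^ m : A ⟶ A) := by
  refine Sheaf.hom_ext (NatTrans.ext (funext fun T => AddCommGrpCat.ext fun a => ?_))
  let ev : (CGrpSh.pts Scheme.fppfPrecoverage A ⟶ CGrpSh.pts Scheme.fppfPrecoverage A) →+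
      (CGrpSh.pts Scheme.fppfPrecoverage A).obj.obj T :=
    AddMonoidHom.mk' (fun g => g.hom.app T a) fun _ _ => rfl
  have h : ev (m • 𝟙 _) = m • a := (map_nsmul ev m _).trans rfl
  refine h.trans (ULift.ext _ _ (congrArg Additive.ofMul ?_))
  show a.down.toMul ^ m = a.down.toMul ≫ (𝟙 A ^ m)
  rw [MonObj.comp_pow, Category.comp_id]

/-- Multiplication by a nonzero integer is an fppf epimorphism on the points of an abelian scheme. -/
theorem epi_zsmul (A : Over S) [GrpObj A] [IsCommMonObj A] [Smooth A.hom] [IsProper A.hom]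
    (hA : ∀ s : S, ConnectedSpace ↥(A.hom.fiber s)) (n : ℤ) (hn : n ≠ 0) :
    Epi (n • 𝟙 (CGrpSh.pts Scheme.fppfPrecoverage A)) := by
  haveI := AbRigid.geometricallyReduced_of_smooth A.hom
  haveI := AbSchRigid22.geometricallyConnected_of_grpObj A hA
  have hnat : ∀ m : ℕ, 1 ≤ m → Epi (m • 𝟙 (CGrpSh.pts Scheme.fppfPrecoverage A)) := by
    intro m hm
    obtain ⟨h1, h2, h3⟩ := Isogeny14.isFinite_flat_surjective_pow A m hm
    haveI : LocallyOfFinitePresentation (𝟙 A ^ m : A ⟶ A).left := by
      haveI : LocallyOfFinitePresentation ((𝟙 A ^ m : A ⟶ A).left ≫ A.hom) := by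
        rw [Over.w]; infer_instance
      exact SchBasic.locallyOfFinitePresentation_of_comp _ A.hom
    haveI := h2; haveI := h3
    haveI := TorusIsog19.isMonHom_pow A m
    rw [nsmul_eq_ptsMap]
    exact epi_ptsMap_of_fppf _
  obtain ⟨m, rfl | rfl⟩ := n.eq_nat_or_neg
  · rw [natCast_zsmul]; exact hnat m (by omega)
  · haveI := hnat m (by omega)
    rw [neg_smul, natCast_zsmul]
    refine Preadditive.epi_of_cancel_zero _ fun g hg => ?_
    rw [Preadditive.neg_comp, neg_eq_zero] at hg
    exact (cancel_epi (m • 𝟙 (CGrpSh.pts Scheme.fppfPrecoverage A))).1 (hg.trans comp_zero.symm)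

end Groth.Agent.EpiMul8

end
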